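import Mathlib
import Groth.Prelude.Def_ConstAct2
import Groth.Prelude.Def_Hoch

set_option autoImplicit false
universe u
open scoped BigOperators TensorProduct

namespace Groth.Agent.Lib.Helper5.ConstActA

variable (R : Type u) [CommRing R] (B : Type u) [AddCommGroup B] [Module R B]
variable (Γ : Type u) [Fintype Γ] [DecidableEq Γ]

/-- The `g`-th coordinate `B ⊗ Fun(Γ,R) → B`. -/
noncomputable def coord (g : Γ) : B ⊗[R] ConstGrp.F R Γ →ₗ[R] B :=
  (TensorProduct.rid R B).toLinearMap ∘ₗ (ConstGrp.ev R g).toLinearMap.lTensor B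

@[simp] theorem coord_tmul (g : Γ) (b : B) (f : ConstGrp.F R Γ) :
    coord R B Γ g (b ⊗ₜ[R] f) = f g • b := by
  simp [coord]

theorem coord_tmul_e (g h : Γ) (b : B) :
    coord R B Γ g (b ⊗ₜ[R] ConstGrp.e R h) = if g = h then b else 0 := by
  rw [coord_tmul, ConstGrp.e_apply]
  split_ifs <;> simp

theorem eq_sum_coord (x : B ⊗[R] ConstGrp.F R Γ) :
    x = ∑ g : Γ, coord R B Γ g x ⊗ₜ[R] ConstGrp.e R g := by
  induction x using TensorProduct.induction_on with
  | zero => simp
  | tmul b f =>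
    simp only [coord_tmul]
    conv_lhs => rw [ConstGrp.eq_sum_smul_e f, TensorProduct.tmul_sum]
    refine Finset.sum_congr rfl fun g _ => ?_
    rw [TensorProduct.smul_tmul]
  | add x y hx hy =>
    conv_lhs => rw [hx, hy]
    rw [← Finset.sum_add_distrib]
    refine Finset.sum_congr rfl fun g _ => ?_
    rw [map_add, TensorProduct.add_tmul]

theorem ext_coord {x y : B ⊗[R] ConstGrp.F R Γ} (h : ∀ g, coord R B Γ g x = coord R B Γ g y) :
    x = y := by
  rw [eq_sum_coord R B Γ x, eq_sum_coord R B Γ y]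
  exact Finset.sum_congr rfl fun g _ => by rw [h g]

theorem coord_sum_tmul_e (g : Γ) (c : Γ → B) :
    coord R B Γ g (∑ h : Γ, c h ⊗ₜ[R] ConstGrp.e R h) = c g := by
  rw [map_sum]
  simp only [coord_tmul_e]
  rw [Finset.sum_ite_eq]
  simp

end Groth.Agent.Lib.Helper5.ConstActA
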