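import Mathlib
import Groth.Agent.Lib.Helper5.ConstAct.A

set_option autoImplicit false
universe u
open scoped BigOperators TensorProduct

namespace Groth.Agent.Lib.Helper5.ConstActB
open Groth.Agent.Lib.Helper5.ConstActA

variable (R : Type u) [CommRing R]
    (B : Type u) [CommRing B] [Algebra R B] (Γ : Type u) [Group Γ] [Fintype Γ] [DecidableEq Γ]
    [MulSemiringAction Γ B] [SMulCommClass Γ R B]

theorem main :
    letI := ConstAct.comod R B Γ
    (∃ α : ConstGrp.F R Γ →ₗ[R] B, Hoch.IsComodHom (ConstGrp.F R Γ) α ∧ α 1 = 1) ↔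
      ∀ c : B, c ∈ ConstAct.inv R B Γ → ∃ b : B, ∑ γ : Γ, γ • b = c := by
  letI := ConstAct.comod R B Γ
  constructor
  · rintro ⟨α, hα, h1⟩ c hc
    have key : ∀ h : Γ, h • α (ConstGrp.e R 1) = α (ConstGrp.e R h⁻¹) := by
      intro h
      have := LinearMap.congr_fun hα (ConstGrp.e R 1)
      simp only [LinearMap.comp_apply] at this
      have h2 := congrArg (coord R B Γ h) this
      change coord R B Γ h (ConstAct.coactLin R B Γ (α (ConstGrp.e R 1))) =
        coord R B Γ h (α.rTensor _ (Coalgebra.comul (R := R) (ConstGrp.e R (1:Γ)))) at h2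
      rw [ConstAct.coactLin_apply, coord_sum_tmul_e, ConstGrp.comul_e, map_sum, map_sum] at h2
      simp only [LinearMap.rTensor_tmul, mul_one, coord_tmul_e] at h2
      rw [h2, Finset.sum_eq_single h⁻¹]
      · simp
      · intro b _ hb
        rw [if_neg]
        intro hh
        apply hb
        rw [hh, inv_inv]
      · intro hh; exact absurd (Finset.mem_univ _) hh
    have tr : ∑ γ : Γ, γ • α (ConstGrp.e R 1) = 1 := by
      simp only [key]
      rw [← map_sum, ← h1]
      congr 1
      rw [← ConstGrp.sum_e (R := R) (G := Γ)]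
      exact Fintype.sum_equiv (Equiv.inv Γ) _ _ fun g => rfl
    refine ⟨α (ConstGrp.e R 1) * c, ?_⟩
    have hc' : ∀ γ : Γ, γ • c = c := hc
    simp only [smul_mul', hc']
    rw [← Finset.sum_mul, tr, one_mul]
  · intro H
    obtain ⟨b, hb⟩ := H 1 (Subalgebra.one_mem _)
    let α : ConstGrp.F R Γ →ₗ[R] B :=
      ∑ g : Γ, (LinearMap.toSpanSingleton R B (g⁻¹ • b)) ∘ₗ (ConstGrp.ev R g).toLinearMap
    have hα : ∀ f : ConstGrp.F R Γ, α f = ∑ g : Γ, f g • (g⁻¹ • b) := by
      intro f
      simp [α, LinearMap.sum_apply]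
    have hαe : ∀ x : Γ, α (ConstGrp.e R x) = x⁻¹ • b := by
      intro x
      rw [hα, Finset.sum_eq_single x]
      · simp
      · intro g _ hg
        rw [ConstGrp.e_apply_of_ne hg, zero_smul]
      · intro hh; exact absurd (Finset.mem_univ _) hh
    refine ⟨α, ?_, ?_⟩
    · apply ConstGrp.linearMap_ext
      intro x
      simp only [LinearMap.comp_apply]
      change ConstAct.coactLin R B Γ (α (ConstGrp.e R x)) =
        α.rTensor _ (Coalgebra.comul (R := R) (ConstGrp.e R x))
      rw [ConstAct.coactLin_apply, ConstGrp.comul_e, map_sum]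
      simp only [LinearMap.rTensor_tmul, hαe]
      refine Fintype.sum_equiv ((Equiv.inv Γ).trans (Equiv.mulLeft x)) _ _ fun g => ?_
      simp [mul_smul]
    · rw [hα]
      simp only [ConstGrp.one_apply, one_smul]
      rw [← hb]
      exact Fintype.sum_equiv (Equiv.inv Γ) _ _ fun g => rfl

end Groth.Agent.Lib.Helper5.ConstActB
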