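import Mathlib
import Groth.Agent.Lib.Helper5.ConstAct.A
import Groth.Prelude.Def_GLin

set_option autoImplicit false
universe u
open scoped BigOperators TensorProduct

namespace Groth.Agent.Lib.Helper5.ConstActC
open Groth.Agent.Lib.Helper5.ConstActA

section gen
variable (R : Type u) [CommRing R]
    (B : Type u) [CommRing B] [Algebra R B] (Γ : Type u) [Fintype Γ] [DecidableEq Γ]

/-- the coordinate as an algebra map -/
noncomputable def coordAlg (g : Γ) : B ⊗[R] ConstGrp.F R Γ →ₐ[R] B :=
  (Algebra.TensorProduct.rid R R B).toAlgHom.comp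
    (Algebra.TensorProduct.map (AlgHom.id R B) (ConstGrp.ev R g))

theorem coordAlg_eq (g : Γ) (x : B ⊗[R] ConstGrp.F R Γ) : coordAlg R B Γ g x = coord R B Γ g x := by
  induction x using TensorProduct.induction_on with
  | zero => simp
  | tmul b f => simp [coordAlg]
  | add x y hx hy => rw [map_add, map_add, hx, hy]

theorem coord_mul (g : Γ) (x y : B ⊗[R] ConstGrp.F R Γ) :
    coord R B Γ g (x * y) = coord R B Γ g x * coord R B Γ g y := by
  rw [← coordAlg_eq, ← coordAlg_eq, ← coordAlg_eq, map_mul]

theorem coord_one (g : Γ) : coord R B Γ g 1 = 1 := by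
  rw [← coordAlg_eq, map_one]

/-- double coordinate -/
noncomputable def coord2 (g h : Γ) : B ⊗[R] (ConstGrp.F R Γ ⊗[R] ConstGrp.F R Γ) →ₗ[R] B :=
  (TensorProduct.rid R B).toLinearMap ∘ₗ
    ((TensorProduct.lid R R).toLinearMap ∘ₗ
      TensorProduct.map (ConstGrp.ev R g).toLinearMap (ConstGrp.ev R h).toLinearMap).lTensor B

@[simp] theorem coord2_tmul (g h : Γ) (b : B) (f f' : ConstGrp.F R Γ) :
    coord2 R B Γ g h (b ⊗ₜ[R] (f ⊗ₜ[R] f')) = (f g * f' h) • b := by
  simp [coord2]

theorem coord2_tmul_e (g h x y : Γ) (b : B) :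
    coord2 R B Γ g h (b ⊗ₜ[R] (ConstGrp.e R x ⊗ₜ[R] ConstGrp.e R y)) =
      if g = x ∧ h = y then b else 0 := by
  rw [coord2_tmul, ConstGrp.e_apply, ConstGrp.e_apply]
  by_cases h1 : g = x <;> by_cases h2 : h = y <;> simp [h1, h2]

end gen

variable (R : Type u) [CommRing R]
    (B : Type u) [CommRing B] [Algebra R B] (Γ : Type u) [Group Γ] [Fintype Γ] [DecidableEq Γ]
    [HopfRep.Comod R (ConstGrp.F R Γ) B] [GLin.IsCoactAlg R (ConstGrp.F R Γ) B]

local notation "ρ" => HopfRep.Comod.coact (k := R) (A := ConstGrp.F R Γ) (V := B)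

/-- the action -/
noncomputable def act (g : Γ) (b : B) : B := coord R B Γ g (ρ b)

theorem coact_eq (b : B) : ρ b = ∑ g : Γ, act R B Γ g b ⊗ₜ[R] ConstGrp.e R g :=
  eq_sum_coord R B Γ (ρ b)

theorem act_one (b : B) : act R B Γ 1 b = b := by
  have := LinearMap.congr_fun (HopfRep.Comod.counit_comp (k := R) (A := ConstGrp.F R Γ) (V := B)) b
  simp only [LinearMap.comp_apply, LinearMap.flip_apply, TensorProduct.mk_apply] at this
  have h2 := congrArg (TensorProduct.rid R B) this
  rw [TensorProduct.rid_tmul, one_smul] at h2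
  have h3 : (Coalgebra.counit (R := R) (A := ConstGrp.F R Γ)) = (ConstGrp.ev R (1:Γ)).toLinearMap :=
    LinearMap.ext fun f => rfl
  rw [h3] at h2
  exact h2

theorem act_mul (g h : Γ) (b : B) : act R B Γ (g * h) b = act R B Γ g (act R B Γ h b) := by
  have := LinearMap.congr_fun (HopfRep.Comod.coassoc (k := R) (A := ConstGrp.F R Γ) (V := B)) b
  simp only [LinearMap.comp_apply] at this
  have h2 := congrArg (coord2 R B Γ g h) this
  rw [coact_eq R B Γ b] at h2
  simp only [map_sum, LinearMap.rTensor_tmul, LinearMap.lTensor_tmul, LinearEquiv.coe_coe,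
    ConstGrp.comul_e, TensorProduct.tmul_sum] at h2
  simp only [coact_eq R B Γ (act R B Γ _ b), TensorProduct.sum_tmul, map_sum,
    TensorProduct.assoc_tmul, coord2_tmul_e] at h2
  rw [Finset.sum_eq_single h, Finset.sum_eq_single g] at h2
  · rw [if_pos ⟨rfl, rfl⟩] at h2
    rw [h2, Finset.sum_eq_single (g * h), Finset.sum_eq_single g]
    · rw [if_pos ⟨rfl, by group⟩]
    · intro x _ hx
      rw [if_neg]
      rintro ⟨h1, -⟩
      exact hx h1.symm
    · intro hh; exact absurd (Finset.mem_univ _) hh
    · intro x _ hx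
      apply Finset.sum_eq_zero
      intro y _
      rw [if_neg]
      rintro ⟨h1, h3⟩
      apply hx
      rw [h3, ← h1]
      group
    · intro hh; exact absurd (Finset.mem_univ _) hh
  · intro x _ hx
    rw [if_neg]
    rintro ⟨h1, -⟩
    exact hx h1.symm
  · intro hh; exact absurd (Finset.mem_univ _) hh
  · intro x _ hx
    apply Finset.sum_eq_zero
    intro y _
    rw [if_neg]
    rintro ⟨-, h3⟩
    exact hx h3.symm
  · intro hh; exact absurd (Finset.mem_univ _) hh

/-- The `MulSemiringAction` attached to a comodule algebra structure. -/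
@[reducible] noncomputable def msa : MulSemiringAction Γ B where
  smul g b := act R B Γ g b
  one_smul b := act_one R B Γ b
  mul_smul g h b := act_mul R B Γ g h b
  smul_zero g := by change coord R B Γ g (ρ 0) = 0; simp
  smul_add g x y := by
    change coord R B Γ g (ρ (x + y)) = coord R B Γ g (ρ x) + coord R B Γ g (ρ y)
    simp
  smul_one g := by
    change coord R B Γ g (ρ 1) = 1
    rw [GLin.IsCoactAlg.coact_one, coord_one]
  smul_mul g x y := by
    change coord R B Γ g (ρ (x * y)) = coord R B Γ g (ρ x) * coord R B Γ g (ρ y)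
    rw [GLin.IsCoactAlg.coact_mul, coord_mul]

theorem msa_smul (g : Γ) (b : B) :
    letI := msa R B Γ
    g • b = act R B Γ g b := rfl

theorem msa_ext {a a' : MulSemiringAction Γ B}
    (h : ∀ (g : Γ) (b : B), (letI := a; g • b) = (letI := a'; g • b)) : a = a' := by
  cases a with
  | @mk d h1 h2 =>
    cases a' with
    | @mk d' h1' h2' =>
      have : d = d' := by
        apply DistribMulAction.ext
        funext g b
        exact h g b
      subst this
      rfl

theorem main :
    ∃! a : MulSemiringAction Γ B, ∃ _ : SMulCommClass Γ R B,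
      ConstAct.coactLin R B Γ = HopfRep.Comod.coact (k := R) (A := ConstGrp.F R Γ) (V := B) ∧
        GLin.invariants R (ConstGrp.F R Γ) B = ConstAct.inv R B Γ := by
  refine ⟨msa R B Γ, ?_, ?_⟩
  · letI := msa R B Γ
    have hcomm : SMulCommClass Γ R B := ⟨fun g r b => by
      change coord R B Γ g (ρ (r • b)) = r • coord R B Γ g (ρ b)
      simp⟩
    refine ⟨hcomm, ?_, ?_⟩
    · apply LinearMap.ext
      intro b
      rw [ConstAct.coactLin_apply, coact_eq R B Γ b]
      rfl
    · ext b
      rw [GLin.mem_invariants_iff, ConstAct.mem_inv]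
      constructor
      · intro hb g
        change coord R B Γ g (ρ b) = b
        rw [hb, coord_tmul]
        simp
      · intro hb
        apply ext_coord
        intro g
        rw [coord_tmul]
        simp only [ConstGrp.one_apply, one_smul]
        exact hb g
  · rintro a' ⟨hc, h1, -⟩
    apply msa_ext
    intro g b
    change (letI := a'; g • b) = act R B Γ g b
    unfold act
    rw [← h1, ConstAct.coactLin_apply, coord_sum_tmul_e]

end Groth.Agent.Lib.Helper5.ConstActC
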